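import Groth.Agent.Lib.KFlat.Site
import Groth.Prelude.Def_DerComp
import Groth.Agent.Lib.Telescope29.Basic
import Mathlib.CategoryTheory.Functor.OfSequence
import Mathlib.CategoryTheory.Limits.Preserves.Shapes.Products

/-!
Tensoring with the localisation of the structure sheaf at a global section is the telescope.
-/

set_option autoImplicit false
set_option linter.unusedSectionVars false
set_option backward.isDefEq.respectTransparency false
set_option backward.isDefEq.respectTransparency.types false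

universe u

open CategoryTheory CategoryTheory.Limits MonoidalCategory Opposite DerComp

namespace Groth.Agent.RHomAway9

open KFlat KFlat.Site

variable {C : Type u} [SmallCategory C] {J : GrothendieckTopology C} {O : Sheaf J CommRingCat.{u}}
  (s : GSec O)

theorem tensor_map_smulEnd (M N : ModSite.Mod O) :
    ((TS O).obj M).map (smulEnd s N) = smulEnd s (((TS O).obj M).obj N) := by
  apply ((KFlat.Site.adj O).homEquiv _ _).injective
  rw [Adjunction.homEquiv_unit, Adjunction.homEquiv_unit]
  refine Eq.trans ((KFlat.Site.adj O).unit.naturality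
    ((ModSite.toPre O).obj M ◁ (ModSite.toPre O).map (smulEnd s N))).symm ?_
  ext X : 1
  refine ModuleCat.MonoidalCategory.tensor_ext (R := O.obj.obj X) fun m n => ?_
  change (((KFlat.Site.adj O).unit.app ((ModSite.toPre O).obj M ⊗ (ModSite.toPre O).obj N)).app X).hom (m ⊗ₜ[O.obj.obj X] ((s.1 X.unop : O.obj.obj X) • n)) =
    GSec.val' s X • (((KFlat.Site.adj O).unit.app ((ModSite.toPre O).obj M ⊗ (ModSite.toPre O).obj N)).app X).hom (m ⊗ₜ[O.obj.obj X] n)
  rw [TensorProduct.tmul_smul]
  exact (((KFlat.Site.adj O).unit.app ((ModSite.toPre O).obj M ⊗ (ModSite.toPre O).obj N)).app X).hom.map_smul _ _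

/-- The unit isomorphism. -/
noncomputable def rho (M : ModSite.Mod O) : ((TS O).obj M).obj (ModSite.unit O) ≅ M :=
  (ModSite.shPre O).mapIso (ρ_ ((ModSite.toPre O).obj M)) ≪≫ (asIso (KFlat.Site.adj O).counit).app M

theorem rho_natural {M M' : ModSite.Mod O} (f : M ⟶ M') :
    ((TS O).map f).app (ModSite.unit O) ≫ (rho M').hom = (rho M).hom ≫ f := by
  have h : (ModSite.toPre O).map f ▷ 𝟙_ (ModSite.preMod O) ≫ (ρ_ _).hom =
      (ρ_ _).hom ≫ (ModSite.toPre O).map f := rightUnitor_naturality _
  have h2 := congrArg (ModSite.shPre O).map h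
  rw [Functor.map_comp, Functor.map_comp] at h2
  have h3 := (KFlat.Site.adj O).counit.naturality f
  change (ModSite.shPre O).map ((ModSite.toPre O).map f ▷ _) ≫ (_ ≫ (KFlat.Site.adj O).counit.app M') = _
  refine (Category.assoc _ _ _).symm.trans ((congrArg (· ≫ _) h2).trans ((Category.assoc _ _ _).trans ?_))
  exact (congrArg (_ ≫ ·) h3).trans (Category.assoc _ _ _).symm

/-- `N ⟶ N ⊗ O_s`, the `n`-th fraction. -/
noncomputable def jN (N : ModSite.Mod O) (n : ℕ) :
    N ⟶ ((TS O).obj N).obj (locAway s (ModSite.unit O)) :=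
  (rho N).inv ≫ ((TS O).obj N).map
    (Sigma.ι (fun _ : ℕ => ModSite.unit O) n ≫ cokernel.π (awayMap s (ModSite.unit O)))

theorem jN_natural {N N' : ModSite.Mod O} (f : N ⟶ N') (n : ℕ) :
    jN s N n ≫ ((TS O).map f).app _ = f ≫ jN s N' n := by
  have h : (rho N).inv ≫ ((TS O).map f).app (ModSite.unit O) = f ≫ (rho N').inv := by
    rw [Iso.inv_comp_eq, ← Category.assoc, Iso.eq_comp_inv]
    exact rho_natural f
  rw [jN, Category.assoc, NatTrans.naturality, ← Category.assoc, h, Category.assoc]
  rfl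

theorem smulEnd_jN (N : ModSite.Mod O) (n : ℕ) :
    smulEnd s N ≫ jN s N (n + 1) = jN s N n := by
  have h : (Sigma.ι (fun _ : ℕ => ModSite.unit O) n -
      smulEnd s (ModSite.unit O) ≫ Sigma.ι (fun _ : ℕ => ModSite.unit O) (n + 1)) ≫
        cokernel.π (awayMap s (ModSite.unit O)) = 0 := by
    have h' := congrArg (Sigma.ι (fun _ : ℕ => ModSite.unit O) n ≫ ·)
      (cokernel.condition (awayMap s (ModSite.unit O)))
    rwa [← Category.assoc, awayMap, Sigma.ι_desc, comp_zero] at h'
  rw [Preadditive.sub_comp, sub_eq_zero, Category.assoc] at h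
  rw [jN, jN, h, ← Category.assoc, smulEnd_comm, ← tensor_map_smulEnd, Category.assoc, ← Functor.map_comp]

theorem awayMap_jN (N : ModSite.Mod O) : awayMap s N ≫ Sigma.desc (jN s N) = 0 := by
  refine Sigma.hom_ext _ _ fun n => ?_
  simp [awayMap, Preadditive.sub_comp, smulEnd_jN]

/-- The telescope of a module. -/
noncomputable abbrev SN (N : ModSite.Mod O) : ShortComplex (ModSite.Mod O) :=
  ShortComplex.mk (awayMap s N) (Sigma.desc (jN s N)) (awayMap_jN s N)

theorem mono_awayMap (N : ModSite.Mod O) : Mono (awayMap s N) := by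
  haveI : HasExactColimitsOfShape ℕ (ModSite.Mod O) := AB5OfSize.ofShape _
  let F : ℕ ⥤ ModSite.Mod O := Functor.ofSequence (X := fun _ => N) fun _ => smulEnd s N
  obtain ⟨w, hw⟩ := Telescope29.shortExact F
  have h : awayMap s N = 𝟙 (∐ F.obj) - DerLim.shiftMap F.obj (fun n => F.map (homOfLE (Nat.le_succ n))) := by
    refine Sigma.hom_ext (f := fun _ : ℕ => N) _ _ fun n => ?_
    have e : F.map (homOfLE (Nat.le_succ n)) = smulEnd s N := Functor.ofSequence_map_homOfLE_succ _ n
    refine (Sigma.ι_desc _ _).trans ?_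
    refine Eq.symm ((Preadditive.comp_sub _ _ _).trans ?_)
    refine congrArg₂ (· - ·) (Category.comp_id _) ?_
    exact (Sigma.ι_desc _ _).trans (congrArg (· ≫ _) e)
  exact h ▸ hw.mono_f

theorem shortExact_SN (N : ModSite.Mod O) : (SN s N).ShortExact := by
  haveI := mono_awayMap s N
  let T := (TS O).obj N
  let u : ℕ → ModSite.Mod O := fun _ => ModSite.unit O
  let e : (∐ fun _ : ℕ => N) ≅ T.obj (∐ u) :=
    Sigma.mapIso (fun _ => (rho N).symm) ≪≫ (PreservesCoproduct.iso T u).symm
  have he : ∀ n, Sigma.ι (fun _ : ℕ => N) n ≫ e.hom = (rho N).inv ≫ T.map (Sigma.ι u n) := fun n => by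
    simp [e, T, u]
  let S₀ : ShortComplex (ModSite.Mod O) :=
    ShortComplex.mk (awayMap s (ModSite.unit O)) (cokernel.π _) (cokernel.condition _)
  have hS₀ : IsColimit (CokernelCofork.ofπ S₀.g S₀.zero) :=
    cokernelIsCokernel (awayMap s (ModSite.unit O))
  have hg := CokernelCofork.mapIsColimit _ hS₀ T
  have hex : (S₀.map T).Exact ∧ Epi (S₀.map T).g :=
    ⟨ShortComplex.exact_of_g_is_cokernel _ hg, Cofork.IsColimit.epi hg⟩
  let i : SN s N ≅ S₀.map T := ShortComplex.isoMk e e (Iso.refl _) (by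
      refine Sigma.hom_ext _ _ fun n => ?_
      change Sigma.ι (fun _ : ℕ => N) n ≫ e.hom ≫ T.map (awayMap s (ModSite.unit O)) =
        Sigma.ι (fun _ : ℕ => N) n ≫ awayMap s N ≫ e.hom
      rw [reassoc_of% (he n), ← Functor.map_comp]
      simp only [awayMap, Sigma.ι_desc, Sigma.ι_desc_assoc, Preadditive.sub_comp, Category.assoc, he,
        Functor.map_sub, Preadditive.comp_sub, u]
      congr 1
      rw [Functor.map_comp, ← Category.assoc, ← Category.assoc, smulEnd_comm, ← tensor_map_smulEnd]) (by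
      refine Sigma.hom_ext _ _ fun n => ?_
      change Sigma.ι (fun _ : ℕ => N) n ≫ e.hom ≫ T.map (cokernel.π _) =
        Sigma.ι (fun _ : ℕ => N) n ≫ Sigma.desc (jN s N) ≫ 𝟙 _
      rw [reassoc_of% (he n), ← Functor.map_comp, Category.comp_id, Sigma.ι_desc]
      rfl)
  haveI := hex.2
  haveI : Epi (SN s N).g := by
    have : (SN s N).g = e.hom ≫ (S₀.map T).g := by
      simpa [i] using i.hom.comm₂₃.symm
    rw [this]; infer_instance
  exact { exact := (ShortComplex.exact_iff_of_iso i).2 hex.1, mono_f := inferInstance, epi_g := inferInstance }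

end Groth.Agent.RHomAway9
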