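import Groth.Agent.Lib.RHomAway9.Data
import Groth.Agent.Lib.KInj.Derived
import Mathlib.Algebra.Homology.DerivedCategory.Linear
import Mathlib.CategoryTheory.Linear.LinearFunctor
import Mathlib.CategoryTheory.Adjunction.Basic

/-!
A functor on the derived category computed by mapping telescopes has the cotelescope as right
adjoint.
-/

set_option autoImplicit false
set_option linter.unusedSectionVars false
set_option backward.isDefEq.respectTransparency false
set_option backward.isDefEq.respectTransparency.types false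

universe v u w z

open CategoryTheory CategoryTheory.Limits CochainComplex CochainComplex.HomComplex DerivedCategory
open Pretriangulated

namespace Groth.Agent.RHomAway9

variable {A : Type u} [Category.{v} A] [Abelian A] [HasDerivedCategory.{z} A]

theorem isKInjective_mappingCone {K L : CochainComplex A ℤ} (φ : K ⟶ L) [K.IsKInjective]
    [L.IsKInjective] : (mappingCone φ).IsKInjective := by
  rw [isKInjective_iff_rightOrthogonal]
  exact (HomotopyCategory.subcategoryAcyclic A).rightOrthogonal.ext_of_isTriangulatedClosed₂ _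
    (rot_of_distTriang _ (HomotopyCategory.mappingCone_triangleh_distinguished φ))
    (IsKInjective.rightOrthogonal L)
    ((HomotopyCategory.subcategoryAcyclic A).rightOrthogonal.le_shift 1 _ (IsKInjective.rightOrthogonal K))

theorem isKInjective_mappingCocone {K L : CochainComplex A ℤ} (φ : K ⟶ L) [K.IsKInjective]
    [L.IsKInjective] : (mappingCocone φ).IsKInjective :=
  have := isKInjective_mappingCone φ
  inferInstanceAs (((mappingCone φ)⟦(-1 : ℤ)⟧).IsKInjective)

theorem isZero_Q_mappingCocone_id (I : CochainComplex A ℤ) : IsZero (Q.obj (mappingCocone (𝟙 I))) := by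
  have h := mappingCocone_triangle_distinguished (𝟙 I)
  refine Triangle.isZero₁_of_isIso₂ _ h ?_
  change IsIso (Q.map (𝟙 I))
  infer_instance

theorem isKInjective_mappingCocone_id (I : CochainComplex A ℤ) [I.IsKInjective] :
    (mappingCocone (𝟙 I)).IsKInjective :=
  isKInjective_mappingCocone _

variable {R : Type w} [CommRing R] [Linear R A]
  [HasColimitsOfShape (Discrete ℕ) A] [HasLimitsOfShape (Discrete ℕ) A] (s : R)

theorem isKInjective_Lc (I : CochainComplex A ℤ) [I.IsKInjective] : (Lc s I).IsKInjective :=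
  have : (prodN I).IsKInjective := KInjLib.isKInjective_pi _ fun _ => inferInstance
  isKInjective_mappingCocone _

theorem isZero_Q_Lc (P : CochainComplex A ℤ) [P.IsKInjective] (hP : IsZero (Q.obj P)) :
    IsZero (Q.obj (Lc s P)) := by
  have hp : IsZero (Q.obj (prodN P)) := by
    rw [IsZero.iff_id_eq_zero]
    exact (Fan.IsLimit.hom_ext (KInjLib.isLimitPi (fun _ : ℕ => P) fun _ => inferInstance) _ _
      fun n => hP.eq_of_tgt _ _)
  exact Triangle.isZero₁_of_isZero₂₃ _ (mappingCocone_triangle_distinguished (sigma s P)) hp hp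

variable (F : DerivedCategory A ⥤ DerivedCategory A)
  (ε : ∀ T : CochainComplex A ℤ, F.obj (Q.obj T) ≅ Q.obj (Cn s T))
  (hε : ∀ {T T' : CochainComplex A ℤ} (g : T' ⟶ T),
    F.map (Q.map g) ≫ (ε T).hom = (ε T').hom ≫ Q.map (coneMap s g))

/-- The candidate counit. -/
noncomputable def theta (I : CochainComplex A ℤ) : F.obj (Q.obj (Lc s I)) ⟶ Q.obj I :=
  (ε (Lc s I)).hom ≫ Q.map (Φ s _ I (𝟙 _))

include hε in
theorem map_theta {T I : CochainComplex A ℤ} (f : T ⟶ Lc s I) :
    F.map (Q.map f) ≫ theta s F ε I = (ε T).hom ≫ Q.map (Φ s T I f) := by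
  rw [theta, ← Category.assoc, hε f, Category.assoc, ← Q.map_comp, ← Φ_pre, Category.comp_id]

include hε in
theorem bijective_theta (T I : CochainComplex A ℤ) [I.IsKInjective] :
    Function.Bijective fun x : Q.obj T ⟶ Q.obj (Lc s I) => F.map x ≫ theta s F ε I := by
  have := isKInjective_Lc s I
  constructor
  · intro x y hxy
    obtain ⟨f, rfl⟩ := KInjLib.exists_map_eq x
    obtain ⟨f', rfl⟩ := KInjLib.exists_map_eq y
    simp only [map_theta s F ε hε, cancel_epi] at hxy
    obtain ⟨h⟩ := (KInjLib.map_eq_iff _ _).1 hxy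
    obtain ⟨z, hz⟩ := Cochain.equivHomotopy _ _ h
    -- the difference of the two maps factors through a contractible complex
    let φ' : Cn s T ⟶ mappingCocone (𝟙 I) :=
      mappingCocone.lift (𝟙 I) (Φ s T I f - Φ s T I f') (-z) (by
        rw [δ_neg, Category.comp_id, Cochain.ofHom_sub, hz]
        abel)
    have := isKInjective_mappingCocone_id I
    let g := (Φ s T (mappingCocone (𝟙 I))).symm φ'
    have hg : Φ s T I (g ≫ lcMap s (mappingCocone.fst (𝟙 I))) = Φ s T I f - Φ s T I f' := by
      rw [Φ_post, Equiv.apply_symm_apply, mappingCocone.lift_fst]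
    have hadd : ∀ a b : T ⟶ Lc s I, Φ s T I (a + b) = Φ s T I a + Φ s T I b := by
      intro a b
      refine (coneEquiv T I).injective ?_
      refine Datum.ext (funext fun n => ?_) (funext fun n => ?_)
      · simp [Φ, coneEquiv, coconeEquiv]
      · simp [Φ, coneEquiv, coconeEquiv]
        abel
    have hf : f = f' + g ≫ lcMap s (mappingCocone.fst (𝟙 I)) :=
      (Φ s T I).injective (by rw [hadd, hg]; abel)
    have h0 : Q.map g ≫ Q.map (lcMap s (mappingCocone.fst (𝟙 I))) = 0 := by
      rw [(isZero_Q_Lc s _ (isZero_Q_mappingCocone_id I)).eq_of_tgt (Q.map g) 0, zero_comp]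
    rw [hf, Q.map_add, Q.map_comp, h0, add_zero]
  · intro y
    obtain ⟨φ, hφ⟩ := KInjLib.exists_map_eq ((ε T).inv ≫ y)
    refine ⟨Q.map ((Φ s T I).symm φ), ?_⟩
    simp only [map_theta s F ε hε, Equiv.apply_symm_apply, hφ, Iso.hom_inv_id_assoc]

include hε in
/-- The right adjoint is computed by cotelescopes. -/
theorem exists_iso {G : DerivedCategory A ⥤ DerivedCategory A} (adj : F ⊣ G)
    (I : CochainComplex A ℤ) [I.IsKInjective] : Nonempty (Q.obj (Lc s I) ≅ G.obj (Q.obj I)) := by
  have : IsIso (adj.homEquiv _ _ (theta s F ε I)) := by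
    refine isIso_of_yoneda_map_bijective _ fun Z => ?_
    let e := Q.objObjPreimageIso Z
    have h1 : Function.Bijective fun x : Z ⟶ Q.obj (Lc s I) => F.map x ≫ theta s F ε I := by
      have h := ((Iso.homCongr (F.mapIso e) (Iso.refl _)).bijective.comp
        (bijective_theta s F ε hε (Q.objPreimage Z) I)).comp (Iso.homCongr e.symm (Iso.refl _)).bijective
      convert h using 2 with x
      simp [Iso.homCongr]
    have h2 := (adj.homEquiv Z (Q.obj I)).bijective.comp h1
    convert h2 using 2 with x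
    exact (adj.homEquiv_naturality_left _ _).symm
  exact ⟨asIso (adj.homEquiv _ _ (theta s F ε I))⟩

/-- The cotelescope triangle. -/
theorem exists_triangle (I : CochainComplex A ℤ) [I.IsKInjective] [HasProduct fun _ : ℕ => Q.obj I] :
    ∃ (a : Q.obj (Lc s I) ⟶ ∏ᶜ fun _ : ℕ => Q.obj I)
      (c : (∏ᶜ fun _ : ℕ => Q.obj I) ⟶ (Q.obj (Lc s I))⟦(1 : ℤ)⟧),
      Triangle.mk a (Pi.lift fun n => Pi.π (fun _ : ℕ => Q.obj I) n -
        Pi.π (fun _ : ℕ => Q.obj I) (n + 1) ≫ (s • 𝟙 (Q.obj I))) c ∈ distinguishedTriangles := by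
  let hl := KInjLib.isLimitPi (fun _ : ℕ => I) fun _ => inferInstance
  let e : Q.obj (prodN I) ≅ ∏ᶜ fun _ : ℕ => Q.obj I :=
    hl.conePointUniqueUpToIso (productIsProduct _)
  have he : ∀ n, e.hom ≫ Pi.π (fun _ : ℕ => Q.obj I) n = Q.map (πN I n) := fun n =>
    hl.conePointUniqueUpToIso_hom_comp (productIsProduct _) ⟨n⟩
  have h := mappingCocone_triangle_distinguished (sigma s I)
  refine ⟨Q.map (mappingCocone.fst (sigma s I)) ≫ e.hom,
    e.inv ≫ (Q.mapTriangle.obj (mappingCocone.triangle (sigma s I))).mor₃, isomorphic_distinguished _ h _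
    (Triangle.isoMk _ _ (Iso.refl _) e.symm e.symm ?_ ?_ ?_)⟩
  · change (Q.map (mappingCocone.fst (sigma s I)) ≫ e.hom) ≫ e.inv =
      𝟙 _ ≫ Q.map (mappingCocone.fst (sigma s I))
    simp
  · change (Pi.lift fun n => Pi.π (fun _ : ℕ => Q.obj I) n -
        Pi.π (fun _ : ℕ => Q.obj I) (n + 1) ≫ (s • 𝟙 (Q.obj I))) ≫ e.inv = e.inv ≫ Q.map (sigma s I)
    rw [Iso.comp_inv_eq, Category.assoc, ← cancel_epi e.hom, e.hom_inv_id_assoc]
    refine Limits.Pi.hom_ext _ _ fun n => ?_
    simp only [Category.assoc, Pi.lift_π, Preadditive.comp_sub, Linear.comp_smul, Category.comp_id, he,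
      ← Q.map_comp, sigma_π, Functor.map_sub, Functor.map_smul]
  · refine (congrArg (_ ≫ ·) ((CategoryTheory.shiftFunctor (DerivedCategory A) (1 : ℤ)).map_id _)).trans ?_
    exact Category.comp_id _

end Groth.Agent.RHomAway9
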