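import Mathlib.Algebra.Homology.HomotopyCategory.MappingCocone
import Mathlib.Algebra.Homology.HomologicalComplexLimits
import Mathlib.Algebra.Homology.Linear
import Mathlib.CategoryTheory.Limits.Preserves.Shapes.Products
import Mathlib.CategoryTheory.Abelian.Basic

/-!
The mapping telescope of multiplication by a scalar on a complex is left adjoint to the mapping
cotelescope.
-/

set_option autoImplicit false
set_option linter.unusedSectionVars false
set_option backward.isDefEq.respectTransparency false
set_option backward.isDefEq.respectTransparency.types false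

universe v u w

open CategoryTheory CategoryTheory.Limits CochainComplex CochainComplex.HomComplex

namespace Groth.Agent.RHomAway9

variable {R : Type w} [CommRing R] {A : Type u} [Category.{v} A] [Abelian A] [Linear R A]
  [HasColimitsOfShape (Discrete ℕ) A] [HasLimitsOfShape (Discrete ℕ) A] (s : R)


/-- The countable sum of copies. -/
noncomputable abbrev sumN (T : CochainComplex A ℤ) : CochainComplex A ℤ := ∐ fun _ : ℕ => T

/-- The countable product of copies. -/
noncomputable abbrev prodN (I : CochainComplex A ℤ) : CochainComplex A ℤ := ∏ᶜ fun _ : ℕ => I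

/-- The inclusions. -/
noncomputable abbrev ιN (T : CochainComplex A ℤ) (n : ℕ) : T ⟶ sumN T := Sigma.ι (fun _ : ℕ => T) n

/-- The projections. -/
noncomputable abbrev πN (I : CochainComplex A ℤ) (n : ℕ) : prodN I ⟶ I := Pi.π (fun _ : ℕ => I) n

/-- `x ↦ x - s x` shifted. -/
noncomputable def dT (T : CochainComplex A ℤ) : sumN T ⟶ sumN T :=
  Sigma.desc fun n => ιN T n - s • ιN T (n + 1)

/-- The dual map. -/
noncomputable def sigma (I : CochainComplex A ℤ) : prodN I ⟶ prodN I :=
  Pi.lift fun n => πN I n - s • πN I (n + 1)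

@[reassoc (attr := simp)]
theorem ι_dT (T : CochainComplex A ℤ) (n : ℕ) : ιN T n ≫ dT s T = ιN T n - s • ιN T (n + 1) := by
  simp [dT, ιN]

@[reassoc (attr := simp)]
theorem sigma_π (I : CochainComplex A ℤ) (n : ℕ) : sigma s I ≫ πN I n = πN I n - s • πN I (n + 1) := by
  simp [sigma, πN]

/-- The telescope. -/
noncomputable abbrev Cn (T : CochainComplex A ℤ) : CochainComplex A ℤ := mappingCone (dT s T)

/-- The cotelescope. -/
noncomputable abbrev Lc (I : CochainComplex A ℤ) : CochainComplex A ℤ := mappingCocone (sigma s I)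

/-- The common data. -/
@[ext]
structure Datum (T I : CochainComplex A ℤ) where
  /-- the maps -/
  f : ℕ → (T ⟶ I)
  /-- the homotopies -/
  h : ℕ → Cochain T I (-1)
  eq : ∀ n, δ (-1) 0 (h n) = Cochain.ofHom (f n - s • f (n + 1))

section Ext

variable {T K : CochainComplex A ℤ} {k : ℤ}

/-- Degreewise coproducts. -/
noncomputable def sigCofan (T : CochainComplex A ℤ) (p : ℤ) :
    IsColimit (Cofan.mk ((sumN T).X p) fun n => (ιN T n).f p) :=
  isColimitCofanMkObjOfIsColimit (HomologicalComplex.eval _ _ p) _ _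
    (coproductIsCoproduct fun _ : ℕ => T)

/-- Degreewise products. -/
noncomputable def piFan (I : CochainComplex A ℤ) (p : ℤ) :
    IsLimit (Fan.mk ((prodN I).X p) fun n => (πN I n).f p) :=
  isLimitFanMkObjOfIsLimit (HomologicalComplex.eval _ _ p) _ _ (productIsProduct fun _ : ℕ => I)

/-- Cochains out of a sum. -/
noncomputable def sigmaC (h : ℕ → Cochain T K k) : Cochain (sumN T) K k :=
  Cochain.mk fun p q hpq => Cofan.IsColimit.desc (sigCofan T p) fun n => (h n).v p q hpq

@[simp]
theorem ι_sigmaC (h : ℕ → Cochain T K k) (n : ℕ) :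
    (Cochain.ofHom (ιN T n)).comp (sigmaC h) (zero_add k) = h n := by
  ext p q hpq
  simp only [Cochain.zero_cochain_comp_v, Cochain.ofHom_v, sigmaC, Cochain.mk_v]
  exact Cofan.IsColimit.fac (sigCofan T p) _ n

theorem cochain_sigma_ext {z z' : Cochain (sumN T) K k}
    (h : ∀ n, (Cochain.ofHom (ιN T n)).comp z (zero_add k) =
      (Cochain.ofHom (ιN T n)).comp z' (zero_add k)) : z = z' := by
  ext p q hpq
  refine Cofan.IsColimit.hom_ext (sigCofan T p) _ _ fun n => ?_
  have := Cochain.congr_v (h n) p q hpq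
  simpa using this

/-- Cochains into a product. -/
noncomputable def piC (h : ℕ → Cochain T K k) : Cochain T (prodN K) k :=
  Cochain.mk fun p q hpq => Fan.IsLimit.lift (piFan K q) fun n => (h n).v p q hpq

@[simp]
theorem piC_π (h : ℕ → Cochain T K k) (n : ℕ) :
    (piC h).comp (Cochain.ofHom (πN K n)) (add_zero k) = h n := by
  ext p q hpq
  simp only [Cochain.comp_zero_cochain_v, Cochain.ofHom_v, piC, Cochain.mk_v]
  exact Fan.IsLimit.fac (piFan K q) _ n

theorem cochain_pi_ext {z z' : Cochain T (prodN K) k}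
    (h : ∀ n, z.comp (Cochain.ofHom (πN K n)) (add_zero k) =
      z'.comp (Cochain.ofHom (πN K n)) (add_zero k)) : z = z' := by
  ext p q hpq
  refine Fan.IsLimit.hom_ext (piFan K q) _ _ fun n => ?_
  have := Cochain.congr_v (h n) p q hpq
  simpa using this

end Ext

section Cocone

variable {K L M : CochainComplex A ℤ} (φ : K ⟶ L)

theorem δ_snd_cocone :
    δ (-1) 0 (mappingCocone.snd φ) = -Cochain.ofHom (mappingCocone.fst φ ≫ φ) := by
  ext p
  obtain ⟨r, rfl⟩ : ∃ r, p = r + 1 := ⟨p - 1, by omega⟩
  simp [mappingCocone.snd, mappingCocone.fst, mappingCocone,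
    Cochain.δ_leftShift _ (-1) (-1) 0 (zero_add _) 1 (by omega), mappingCone.δ_snd,
    Cochain.leftShift_v (n := 1) _ (-1) 0 (add_neg_cancel 1) (r + 1) (r + 1) (add_zero _) r (by omega)]

theorem cocone_hom_ext {a b : M ⟶ mappingCocone φ} (h₁ : a ≫ mappingCocone.fst φ = b ≫ mappingCocone.fst φ)
    (h₂ : (Cochain.ofHom a).comp (mappingCocone.snd φ) (zero_add (-1)) =
      (Cochain.ofHom b).comp (mappingCocone.snd φ) (zero_add (-1))) : a = b := by
  ext p
  have e₁ := HomologicalComplex.congr_hom h₁ p
  have e₂ := Cochain.congr_v h₂ p (p - 1) (by omega)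
  simp only [HomologicalComplex.comp_f, Cochain.zero_cochain_comp_v, Cochain.ofHom_v] at e₁ e₂
  rw [← Category.comp_id (a.f p), ← Category.comp_id (b.f p), ← mappingCocone.id_X φ p (p - 1) (by omega),
    Preadditive.comp_add, Preadditive.comp_add, reassoc_of% e₁, reassoc_of% e₂]

end Cocone

variable {s}

/-- Maps out of the telescope. -/
noncomputable def coneEquiv (T I : CochainComplex A ℤ) : (Cn s T ⟶ I) ≃ Datum s T I where
  toFun φ :=
    { f := fun n => ιN T n ≫ mappingCone.inr _ ≫ φ
      h := fun n => (Cochain.ofHom (ιN T n)).comp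
        ((mappingCone.inl (dT s T)).comp (Cochain.ofHom φ) (add_zero _)) (zero_add _)
      eq := fun n => by
        rw [δ_ofHom_comp, δ_comp_ofHom, mappingCone.δ_inl, ← Cochain.ofHom_comp, ← Cochain.ofHom_comp]
        congr 1
        rw [Category.assoc, ι_dT_assoc]
        simp only [Preadditive.sub_comp, Linear.smul_comp] }
  invFun d := mappingCone.desc (dT s T) (sigmaC d.h) (Sigma.desc d.f) (by
    refine cochain_sigma_ext fun n => ?_
    rw [← δ_ofHom_comp, ι_sigmaC, d.eq, ← Cochain.ofHom_comp]
    congr 1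
    rw [ι_dT_assoc]
    simp [Preadditive.sub_comp, ιN])
  left_inv φ := by
    ext p
    rw [mappingCone.ext_from_iff _ (p + 1) p rfl]
    constructor
    · rw [mappingCone.inl_v_desc_f]
      refine Cofan.IsColimit.hom_ext (sigCofan T (p + 1)) _ _ fun n => ?_
      refine (Cofan.IsColimit.fac (sigCofan T (p + 1)) _ n).trans ?_
      simp [ιN]
    · rw [mappingCone.inr_f_desc_f, ← HomologicalComplex.comp_f]
      refine HomologicalComplex.congr_hom (Sigma.hom_ext _ _ fun n => ?_) p
      rw [Sigma.ι_desc]
  right_inv d := by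
    refine Datum.ext (funext fun n => ?_) (funext fun n => ?_)
    · simp [ιN]
    · simp

/-- Maps into the cotelescope. -/
noncomputable def coconeEquiv (T I : CochainComplex A ℤ) : (T ⟶ Lc s I) ≃ Datum s T I where
  toFun g :=
    { f := fun n => g ≫ mappingCocone.fst _ ≫ πN I n
      h := fun n => -((Cochain.ofHom g).comp
        ((mappingCocone.snd (sigma s I)).comp (Cochain.ofHom (πN I n)) (add_zero _)) (zero_add _))
      eq := fun n => by
        rw [δ_neg, δ_ofHom_comp, δ_comp_ofHom, δ_snd_cocone, Cochain.neg_comp, Cochain.comp_neg, neg_neg,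
          ← Cochain.ofHom_comp, ← Cochain.ofHom_comp]
        congr 1
        rw [Category.assoc, sigma_π]
        simp only [Preadditive.comp_sub, Linear.comp_smul] }
  invFun d := mappingCocone.lift (sigma s I) (Pi.lift d.f) (-piC d.h) (by
    refine cochain_pi_ext fun n => ?_
    rw [Cochain.add_comp, δ_neg, Cochain.neg_comp, ← δ_comp_ofHom, piC_π, d.eq, ← Cochain.ofHom_comp,
      Cochain.zero_comp, ← Cochain.ofHom_neg, ← Cochain.ofHom_add]
    refine (congrArg Cochain.ofHom ?_).trans (Cochain.ofHom_zero _ _)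
    rw [Category.assoc, sigma_π]
    simp [Preadditive.comp_sub, πN])
  left_inv g := by
    refine cocone_hom_ext _ ?_ ?_
    · rw [mappingCocone.lift_fst]
      exact Pi.hom_ext _ _ fun n => by rw [Pi.lift_π, Category.assoc]
    · rw [mappingCocone.ofHom_lift, mappingCocone.liftCochain_comp_snd]
      refine cochain_pi_ext fun n => ?_
      rw [Cochain.neg_comp, piC_π, neg_neg]
      exact (Cochain.comp_assoc_of_first_is_zero_cochain _ _ _ _).symm
  right_inv d := by
    refine Datum.ext (funext fun n => ?_) (funext fun n => ?_)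
    · simp [πN]
    · dsimp only
      rw [← Cochain.comp_assoc_of_first_is_zero_cochain, mappingCocone.ofHom_lift,
        mappingCocone.liftCochain_comp_snd, Cochain.neg_comp, piC_π, neg_neg]

variable (s)

/-- The functoriality of the telescope. -/
noncomputable def coneMap {T T' : CochainComplex A ℤ} (g : T' ⟶ T) : Cn s T' ⟶ Cn s T :=
  mappingCone.map (dT s T') (dT s T) (Limits.Sigma.map fun _ => g) (Limits.Sigma.map fun _ => g)
    (Sigma.hom_ext _ _ fun n => by simp [dT, ιN, Preadditive.sub_comp, Preadditive.comp_sub])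

/-- The functoriality of the cotelescope. -/
noncomputable def lcMap {I I' : CochainComplex A ℤ} (π : I ⟶ I') : Lc s I ⟶ Lc s I' :=
  mappingCocone.lift (sigma s I') (mappingCocone.fst (sigma s I) ≫ Limits.Pi.map fun _ => π)
    ((mappingCocone.snd (sigma s I)).comp (Cochain.ofHom (Limits.Pi.map fun _ => π)) (add_zero _)) (by
      rw [δ_comp_ofHom, δ_snd_cocone, Cochain.neg_comp, ← Cochain.ofHom_comp]
      have h : (mappingCocone.fst (sigma s I) ≫ Limits.Pi.map fun _ => π) ≫ sigma s I' =
          (mappingCocone.fst (sigma s I) ≫ sigma s I) ≫ Limits.Pi.map fun _ => π := by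
        refine Pi.hom_ext _ _ fun n => ?_
        simp [sigma, πN, Preadditive.sub_comp, Preadditive.comp_sub]
      rw [h]
      exact neg_add_cancel _)

/-- The strict adjunction. -/
noncomputable def Φ (T I : CochainComplex A ℤ) : (T ⟶ Lc s I) ≃ (Cn s T ⟶ I) :=
  (coconeEquiv T I).trans (coneEquiv T I).symm

variable {s}

theorem Φ_pre {T T' I : CochainComplex A ℤ} (g : T' ⟶ T) (f : T ⟶ Lc s I) :
    Φ s T' I (g ≫ f) = coneMap s g ≫ Φ s T I f := by
  have key : ∀ φ : Cn s T ⟶ I, coneEquiv T' I (coneMap s g ≫ φ) =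
      { f := fun n => g ≫ (coneEquiv T I φ).f n
        h := fun n => (Cochain.ofHom g).comp ((coneEquiv T I φ).h n) (zero_add _)
        eq := fun n => by
          rw [δ_ofHom_comp, (coneEquiv T I φ).eq, ← Cochain.ofHom_comp]
          simp [Preadditive.comp_sub] } := fun φ => by
    refine Datum.ext (funext fun n => ?_) (funext fun n => ?_)
    · simp [coneEquiv, coneMap, mappingCone.map, ιN]
    · ext p q hpq
      simp [coneEquiv, coneMap, mappingCone.map, ιN]
      have e : (Sigma.ι (fun _ : ℕ => T') n).f p ≫ (Limits.Sigma.map fun _ : ℕ => g).f p =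
          g.f p ≫ (Sigma.ι (fun _ : ℕ => T) n).f p := by
        rw [← HomologicalComplex.comp_f, ← HomologicalComplex.comp_f, Sigma.ι_map]
      exact (reassoc_of% e) _
  refine (coneEquiv T' I).injective ?_
  rw [key]
  refine Datum.ext (funext fun n => ?_) (funext fun n => ?_)
  · simp [Φ, coconeEquiv]
  · simp [Φ, coconeEquiv, Cochain.comp_neg, Cochain.ofHom_comp]

theorem Φ_post {T I I' : CochainComplex A ℤ} (f : T ⟶ Lc s I) (π : I ⟶ I') :
    Φ s T I' (f ≫ lcMap s π) = Φ s T I f ≫ π := by
  have key : ∀ φ : Cn s T ⟶ I, coneEquiv T I' (φ ≫ π) =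
      { f := fun n => (coneEquiv T I φ).f n ≫ π
        h := fun n => ((coneEquiv T I φ).h n).comp (Cochain.ofHom π) (add_zero _)
        eq := fun n => by
          rw [δ_comp_ofHom, (coneEquiv T I φ).eq, ← Cochain.ofHom_comp]
          simp [Preadditive.sub_comp] } := fun φ => by
    refine Datum.ext (funext fun n => ?_) (funext fun n => ?_)
    · simp [coneEquiv]
    · ext p q hpq
      simp [coneEquiv]
  refine (coneEquiv T I').injective ?_
  rw [key]
  refine Datum.ext (funext fun n => ?_) (funext fun n => ?_)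
  · simp [Φ, coconeEquiv, lcMap, πN]
  · ext p q hpq
    simp [Φ, coconeEquiv, lcMap, πN, ← HomologicalComplex.comp_f]

end Groth.Agent.RHomAway9
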