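import Groth.Agent.Lib.RHomAway9.Site

/-!
`RHom(O_s, K)` is the derived limit of multiplication by `s`.
-/

set_option autoImplicit false
set_option linter.unusedSectionVars false
set_option backward.isDefEq.respectTransparency false
set_option backward.isDefEq.respectTransparency.types false

universe u

open CategoryTheory CategoryTheory.Limits DerComp

attribute [local instance] HasDerivedCategory.standard

namespace Groth.Agent.RHomAway9

open Pretriangulated

variable {C : Type u} [SmallCategory C] {J : GrothendieckTopology C} {O : Sheaf J CommRingCat.{u}}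
  (s : GSec O) [ModSite.HasLTensorCx (Pc s)] [HasRHom (Pc s)]

theorem isT_rhom (K : DerivedCategory (ModSite.Mod O)) [HasProduct fun _ : ℕ => K] :
    IsT s K ((RHom (Pc s)).obj K) := by
  haveI : IsGrothendieckAbelian.{u} (ModSite.Mod O) :=
    CohFound.isGrothendieckAbelian_sheafOfModules (ModSite.ringSh O)
  haveI : HasLimitsOfShape (Discrete ℕ) (ModSite.Mod O) :=
    hasLimitsOfShape_of_equivalence (Discrete.equivalence (Equiv.ulift.{u} (α := ℕ)))
  obtain ⟨I, hI, ⟨e⟩⟩ := KInjLib.exists_iso_kInjective K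
  haveI : HasProduct fun _ : ℕ => DerivedCategory.Q.obj I :=
    hasLimit_of_iso (F := Discrete.functor fun _ : ℕ => K) (Discrete.natIso fun _ => e)
  obtain ⟨i⟩ := exists_iso s (ModSite.LTensorCx (Pc s)) (eps s) (fun g => eps_natural s g)
    (RHomAdj (Pc s)) I
  obtain ⟨a, c, h⟩ := exists_triangle s I
  let i' : DerivedCategory.Q.obj (Lc s I) ≅ (RHom (Pc s)).obj K := i ≪≫ ((RHom (Pc s)).mapIso e).symm
  let f : (∏ᶜ fun _ : ℕ => DerivedCategory.Q.obj I) ≅ ∏ᶜ fun _ : ℕ => K :=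
    HasLimit.isoOfNatIso (Discrete.natIso fun _ => e.symm)
  have hf : ∀ n, f.hom ≫ Pi.π (fun _ : ℕ => K) n = Pi.π (fun _ : ℕ => DerivedCategory.Q.obj I) n ≫ e.inv :=
    fun n => HasLimit.isoOfNatIso_hom_π _ (Discrete.mk n)
  have hf' : ∀ n, f.inv ≫ Pi.π (fun _ : ℕ => DerivedCategory.Q.obj I) n = Pi.π (fun _ : ℕ => K) n ≫ e.hom :=
    fun n => HasLimit.isoOfNatIso_inv_π _ (Discrete.mk n)
  refine ⟨i'.inv ≫ a ≫ f.hom, f.inv ≫ c ≫ i'.hom⟦(1 : ℤ)⟧', isomorphic_distinguished _ h _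
    (Triangle.isoMk _ _ i'.symm f.symm f.symm ?_ ?_ ?_)⟩
  · simp
  · dsimp
    refine Limits.Pi.hom_ext _ _ fun n => ?_
    simp [hf', Preadditive.sub_comp, Preadditive.comp_sub, Linear.comp_smul, Linear.smul_comp]
  · dsimp
    simp [← Functor.map_comp]

theorem isZero_rhom_iff (K : DerivedCategory (ModSite.Mod O)) [HasProduct fun _ : ℕ => K] :
    IsZero ((RHom (Pc s)).obj K) ↔ ∀ L : DerivedCategory (ModSite.Mod O), IsT s K L → IsZero L := by
  obtain ⟨a, c, h⟩ := isT_rhom s K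
  refine ⟨fun h0 L hL => ?_, fun hall => hall _ ⟨a, c, h⟩⟩
  obtain ⟨a', c', h'⟩ := hL
  exact Triangle.isZero₁_of_isIso₂ _ h' ((Triangle.isZero₁_iff_isIso₂ _ h).1 h0)

end Groth.Agent.RHomAway9
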