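import Groth.Agent.Lib.RHomAway9.Tensor
import Groth.Agent.Lib.RHomAway9.Dual
import Groth.Agent.Lib.KFlat8.SiteLT
import Mathlib.Algebra.Homology.HomotopyCategory.ShortExact

/-!
The derived tensor product with the localisation of the structure sheaf is computed by telescopes.
-/

set_option autoImplicit false
set_option linter.unusedSectionVars false
set_option backward.isDefEq.respectTransparency false
set_option backward.isDefEq.respectTransparency.types false

universe u

open CategoryTheory CategoryTheory.Limits DerComp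

attribute [local instance] HasDerivedCategory.standard

namespace Groth.Agent.RHomAway9

open KFlat KFlat.Site KFlat8

variable {C : Type u} [SmallCategory C] {J : GrothendieckTopology C} {O : Sheaf J CommRingCat.{u}}
  (s : GSec O)

/-- `O_s` in degree zero. -/
noncomputable abbrev Pc : CochainComplex (ModSite.Mod O) ℤ :=
  (CochainComplex.singleFunctor (ModSite.Mod O) 0).obj (locAway s (ModSite.unit O))

/-- The tensor product with `O_s` in one degree. -/
noncomputable abbrev eN (T : CochainComplex (ModSite.Mod O) ℤ) (p : ℤ) :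
    ((TS O).obj (T.X p)).obj (locAway s (ModSite.unit O)) ≅ ((G (Pc s)).obj T).X p :=
  singleTotalIso (T := TS O) T 0 (locAway s (ModSite.unit O)) (add_zero p)

theorem eN_natural {T T' : CochainComplex (ModSite.Mod O) ℤ} (g : T ⟶ T') (p : ℤ) :
    ((TS O).map (g.f p)).app _ ≫ (eN s T' p).hom = (eN s T p).hom ≫ ((G (Pc s)).map g).f p := by
  refine Eq.symm ((Category.assoc _ _ _).trans ?_)
  refine (congrArg (_ ≫ ·) (ι_tcx_map₁ (TS O) g (Pc s) p 0 p (add_zero p))).trans ?_
  exact ((TS O).map (g.f p)).naturality_assoc _ _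

/-- The `n`-th fraction on complexes. -/
noncomputable def jC (T : CochainComplex (ModSite.Mod O) ℤ) (n : ℕ) : T ⟶ (G (Pc s)).obj T where
  f p := jN s (T.X p) n ≫ (eN s T p).hom
  comm' p q hpq := by
    refine (Category.assoc _ _ _).trans ?_
    refine (congrArg (_ ≫ ·) (singleTotalIso_d (T := TS O) T 0 (locAway s (ModSite.unit O))
      (add_zero p) (add_zero q) hpq).symm).trans ?_
    refine (Category.assoc _ _ _).symm.trans ?_
    exact (congrArg (· ≫ _) (jN_natural s (T.d p q) n)).trans (Category.assoc _ _ _)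

theorem jC_natural {T T' : CochainComplex (ModSite.Mod O) ℤ} (g : T ⟶ T') (n : ℕ) :
    g ≫ jC s T' n = jC s T n ≫ (G (Pc s)).map g := by
  refine HomologicalComplex.hom_ext _ _ fun p => ?_
  change g.f p ≫ jN s (T'.X p) n ≫ _ = (jN s (T.X p) n ≫ _) ≫ _
  rw [← Category.assoc, ← jN_natural, Category.assoc, Category.assoc]
  exact congrArg (_ ≫ ·) (eN_natural s g p)

theorem dT_desc (T : CochainComplex (ModSite.Mod O) ℤ) :
    dT s T ≫ Sigma.desc (jC s T) = 0 := by
  refine Sigma.hom_ext _ _ fun n => ?_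
  rw [comp_zero]
  refine (ι_dT_assoc s T n _).trans ?_
  simp only [Preadditive.sub_comp, Linear.smul_comp, Sigma.ι_desc]
  refine HomologicalComplex.hom_ext _ _ fun p => ?_
  change jN s (T.X p) n ≫ _ - smulEnd s (T.X p) ≫ jN s (T.X p) (n + 1) ≫ _ = 0
  rw [← Category.assoc (smulEnd s (T.X p)), smulEnd_jN, sub_self]

/-- The telescope of a complex. -/
noncomputable abbrev SC (T : CochainComplex (ModSite.Mod O) ℤ) :
    ShortComplex (CochainComplex (ModSite.Mod O) ℤ) :=
  ShortComplex.mk (dT s T) (Sigma.desc (jC s T)) (dT_desc s T)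

theorem shortExact_SC (T : CochainComplex (ModSite.Mod O) ℤ) : (SC s T).ShortExact := by
  refine HomologicalComplex.shortExact_of_degreewise_shortExact _ fun p => ?_
  let e : (sumN T).X p ≅ ∐ fun _ : ℕ => T.X p :=
    (sigCofan T p).coconePointUniqueUpToIso (coproductIsCoproduct _)
  have he : ∀ n, Sigma.ι (fun _ : ℕ => T.X p) n ≫ e.inv = (ιN T n).f p := fun n =>
    (sigCofan T p).comp_coconePointUniqueUpToIso_inv (coproductIsCoproduct _) ⟨n⟩
  refine ShortComplex.shortExact_of_iso ?_ (shortExact_SN s (T.X p))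
  refine ShortComplex.isoMk e.symm e.symm (eN s T p) ?_ ?_
  · refine Sigma.hom_ext _ _ fun n => ?_
    change Sigma.ι (fun _ : ℕ => T.X p) n ≫ e.inv ≫ (dT s T).f p =
      Sigma.ι (fun _ : ℕ => T.X p) n ≫ awayMap s (T.X p) ≫ e.inv
    rw [reassoc_of% (he n), ← HomologicalComplex.comp_f, ι_dT]
    simp only [awayMap, Sigma.ι_desc_assoc, Preadditive.sub_comp, Category.assoc, he]
    rfl
  · refine Sigma.hom_ext _ _ fun n => ?_
    change Sigma.ι (fun _ : ℕ => T.X p) n ≫ e.inv ≫ (Sigma.desc (jC s T)).f p =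
      Sigma.ι (fun _ : ℕ => T.X p) n ≫ Sigma.desc (jN s (T.X p)) ≫ (eN s T p).hom
    rw [reassoc_of% (he n), ← HomologicalComplex.comp_f, Sigma.ι_desc, Sigma.ι_desc_assoc]
    rfl

/-- The comparison. -/
noncomputable def qT (T : CochainComplex (ModSite.Mod O) ℤ) : Cn s T ⟶ (G (Pc s)).obj T :=
  CochainComplex.mappingCone.descShortComplex (SC s T)

instance quasiIso_qT (T : CochainComplex (ModSite.Mod O) ℤ) : QuasiIso (qT s T) :=
  CochainComplex.mappingCone.quasiIso_descShortComplex (shortExact_SC s T)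

theorem qT_natural {T T' : CochainComplex (ModSite.Mod O) ℤ} (g : T ⟶ T') :
    coneMap s g ≫ qT s T' = qT s T ≫ (G (Pc s)).map g := by
  refine HomologicalComplex.hom_ext _ _ fun p => ?_
  rw [CochainComplex.mappingCone.ext_from_iff _ (p + 1) p rfl]
  constructor
  · simp [coneMap, qT, CochainComplex.mappingCone.map, CochainComplex.mappingCone.descShortComplex]
  · rw [← HomologicalComplex.comp_f, ← HomologicalComplex.comp_f]
    refine HomologicalComplex.congr_hom ?_ p
    simp only [coneMap, qT, CochainComplex.mappingCone.map, CochainComplex.mappingCone.descShortComplex,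
      CochainComplex.mappingCone.inr_desc_assoc, CochainComplex.mappingCone.inr_desc, Category.assoc]
    refine Sigma.hom_ext _ _ fun n => ?_
    simp [jC_natural]

theorem isIso_Q_sigmaMap {T T' : CochainComplex (ModSite.Mod O) ℤ} (g : T ⟶ T') [QuasiIso g] :
    IsIso (DerivedCategory.Q.map (Limits.Sigma.map fun _ : ℕ => g)) := by
  haveI : IsGrothendieckAbelian.{u} (ModSite.Mod O) :=
    CohFound.isGrothendieckAbelian_sheafOfModules (ModSite.ringSh O)
  let ε : ULift.{u} ℕ ≃ ℕ := Equiv.ulift
  have hc : ∀ K : CochainComplex (ModSite.Mod O) ℤ,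
      Nonempty (IsColimit (Cofan.mk (DerivedCategory.Q.obj (sumN K))
        fun n => DerivedCategory.Q.map (ιN K n))) := fun K => by
    refine ⟨(Cofan.isColimitEquivOfEquiv ε _).symm ?_⟩
    refine IsColimit.ofIsoColimit (KInjLib.isColimitSigma fun _ : ULift.{u} ℕ => K)
      (Cocone.ext (DerivedCategory.Q.mapIso (Sigma.reindex ε fun _ : ℕ => K)) fun a => ?_)
    exact (DerivedCategory.Q.map_comp _ _).symm.trans
      (congrArg DerivedCategory.Q.map (Sigma.ι_reindex_hom ε (fun _ : ℕ => K) a.as))
  obtain ⟨h⟩ := hc T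
  obtain ⟨h'⟩ := hc T'
  haveI : IsIso (DerivedCategory.Q.map g) := inferInstance
  refine ⟨Cofan.IsColimit.desc h' fun n => inv (DerivedCategory.Q.map g) ≫ DerivedCategory.Q.map (ιN T n), ?_, ?_⟩
  · refine Cofan.IsColimit.hom_ext h _ _ fun n => ?_
    have e : DerivedCategory.Q.map (ιN T n) ≫ DerivedCategory.Q.map (Limits.Sigma.map fun _ : ℕ => g) =
        DerivedCategory.Q.map g ≫ DerivedCategory.Q.map (ιN T' n) := by
      rw [← Functor.map_comp, ← Functor.map_comp]
      simp [ιN]
    refine ((reassoc_of% e) _).trans ?_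
    refine (congrArg (_ ≫ ·) (Cofan.IsColimit.fac h' _ n)).trans ?_
    exact (IsIso.hom_inv_id_assoc _ _).trans (Category.comp_id _).symm
  · refine Cofan.IsColimit.hom_ext h' _ _ fun n => ?_
    refine ((Category.assoc _ _ _).symm.trans (congrArg (· ≫ _) (Cofan.IsColimit.fac h' _ n))).trans ?_
    rw [Category.assoc, ← Functor.map_comp]
    refine Eq.trans ?_ (Category.comp_id _).symm
    rw [IsIso.inv_comp_eq]
    change _ = DerivedCategory.Q.map g ≫ DerivedCategory.Q.map (ιN T' n)
    rw [← Functor.map_comp]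
    simp [ιN]

theorem isIso_Q_coneMap {T T' : CochainComplex (ModSite.Mod O) ℤ} (g : T ⟶ T') [QuasiIso g] :
    IsIso (DerivedCategory.Q.map (coneMap s g)) := by
  haveI := isIso_Q_sigmaMap g
  let w : dT s T ≫ Limits.Sigma.map (fun _ : ℕ => g) = Limits.Sigma.map (fun _ : ℕ => g) ≫ dT s T' :=
    Sigma.hom_ext _ _ fun n => by simp [dT, ιN, Preadditive.sub_comp, Preadditive.comp_sub]
  exact Pretriangulated.isIso₃_of_isIso₁₂
    (DerivedCategory.Q.mapTriangle.map (CochainComplex.mappingCone.triangleMap (dT s T) (dT s T')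
      (Limits.Sigma.map fun _ : ℕ => g) (Limits.Sigma.map fun _ : ℕ => g) w))
    (DerivedCategory.mappingCone_triangle_distinguished _)
    (DerivedCategory.mappingCone_triangle_distinguished _)
    (isIso_Q_sigmaMap g) (isIso_Q_sigmaMap g)

theorem isIso_Q_G {T T' : CochainComplex (ModSite.Mod O) ℤ} (g : T ⟶ T') [QuasiIso g] :
    IsIso (DerivedCategory.Q.map ((G (Pc s)).map g)) := by
  haveI := isIso_Q_coneMap s g
  have h := (DerivedCategory.Q.map_comp _ _).symm.trans
    ((congrArg DerivedCategory.Q.map (qT_natural s g)).trans (DerivedCategory.Q.map_comp _ _))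
  haveI : IsIso (DerivedCategory.Q.map (qT s T) ≫ DerivedCategory.Q.map ((G (Pc s)).map g)) := by
    rw [← h]; infer_instance
  exact IsIso.of_isIso_comp_left (DerivedCategory.Q.map (qT s T)) _

variable [ModSite.HasLTensorCx (Pc s)]

theorem isIso_counit_all (T : CochainComplex (ModSite.Mod O) ℤ) :
    IsIso ((counit (Pc s)).app T) :=
  KFlat.isIso_counit (W := HomologicalComplex.quasiIso (ModSite.Mod O) (ComplexShape.up ℤ))
    (resFunctor (cover O)) (resNatTrans (cover O)) (fun K => quasiIso_resπ (cover O) K) _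
    (fun _ => True) (fun _ => trivial)
    (fun {A B} φ hφ _ _ => by
      have : QuasiIso φ := hφ
      exact isIso_Q_G s φ)
    DerivedCategory.Q _ _ T trivial

/-- The derived tensor product with `O_s` is the telescope. -/
noncomputable def eps (T : CochainComplex (ModSite.Mod O) ℤ) :
    (ModSite.LTensorCx (Pc s)).obj (DerivedCategory.Q.obj T) ≅ DerivedCategory.Q.obj (Cn s T) :=
  @asIso _ _ _ _ ((counit (Pc s)).app T) (isIso_counit_all s T) ≪≫
    (asIso (DerivedCategory.Q.map (qT s T))).symm

theorem eps_natural {T T' : CochainComplex (ModSite.Mod O) ℤ} (g : T' ⟶ T) :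
    (ModSite.LTensorCx (Pc s)).map (DerivedCategory.Q.map g) ≫ (eps s T).hom =
      (eps s T').hom ≫ DerivedCategory.Q.map (coneMap s g) := by
  have h := (DerivedCategory.Q.map_comp _ _).symm.trans
    ((congrArg DerivedCategory.Q.map (qT_natural s g)).trans (DerivedCategory.Q.map_comp _ _))
  have hn := (counit (Pc s)).naturality g
  change _ ≫ ((counit (Pc s)).app T ≫ inv (DerivedCategory.Q.map (qT s T))) =
    ((counit (Pc s)).app T' ≫ inv (DerivedCategory.Q.map (qT s T'))) ≫ _
  refine ((Category.assoc _ _ _).symm.trans (congrArg (· ≫ _) hn)).trans ?_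
  refine (Category.assoc _ _ _).trans (Eq.trans (congrArg (_ ≫ ·) ?_) (Category.assoc _ _ _).symm)
  rw [IsIso.comp_inv_eq, Category.assoc]
  exact ((congrArg (_ ≫ ·) h).trans (IsIso.inv_hom_id_assoc _ _)).symm

end Groth.Agent.RHomAway9
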